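import Mathlib
import Cfsg.Agent.H8.NS.LG

/-!
# Controlled `q`-subgroups centralise the components, `q` tight for some components only

`cent_frame` : the middle part of `H8.NS.lg_commutator`: only the factors on which `x` acts nontrivially must be tight.
-/

set_option autoImplicit false
set_option linter.unusedSectionVars false

namespace Cfsg.Agent.H15.NB

open Subgroup
open Cfsg.Agent.H15.Prj
open Cfsg.Agent.H9.Act
open Cfsg.Agent.H9.GenFam (Good)
open Cfsg.Agent.Lib.CoprimeHyperplane (fix mem_fix conjHom)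
open Cfsg.Agent.OddOrderLocal.PiCoreOf
open Cfsg.Agent.H275.NS
open Cfsg.Agent.H8.NS
open Cfsg (piCoreOf)

universe u v

variable {A : Type v} [CommGroup A] {V : Type u} [Group V] [Finite V] {p q : ℕ} [Fact p.Prime] [Fact q.Prime]
  {N : Subgroup V} {𝒯 : Set (Subgroup V)} {φ : A →* MulAut V}

/-- `U = [U, x]` centralises `N` -/
theorem cent_frame [Finite A] (hpq : q ≠ p) (hA : ∀ a : A, a ^ p = 1) (hA2 : p ^ 2 ≤ Nat.card A) {x : A}
    (hF : Fr N 𝒯) (hNi : Inv φ N) (hp : ¬ p ∣ Nat.card V) (hg : Good p V) (hNS : AllNS p V)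
    (hs : Group.IsSolvable (fix φ ⊤))
    (hTt : ∀ T ∈ 𝒯, ind φ (zpowers x) T ≠ ⊥ → ∀ W : Subgroup T, PInv (ind φ ⊤ T) W → IsPGroup q W →
      fxs (ind φ ⊤ T) ≤ normalizer (W : Set T) → W ≤ fxs (ind φ ⊤ T))
    {U : Subgroup V} (hU : Inv φ U) (hUq : IsPGroup q U) (hC : Ctl p q φ x U)
    (hgen : U ≤ Subgroup.closure {y | ∃ z ∈ U, y = z⁻¹ * φ x z}) : U ≤ centralizer (N : Set V) := by
  have hPA : IsPGroup p A := fun a => ⟨1, by rw [pow_one]; exact hA a⟩
  have hUn : N.Normal := hF.normal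
  have hcard : ∀ T ∈ 𝒯, Nat.card (ind φ ⊤ T) = p := fun T hT => hF.card_ind hNi hA hg hs hT
  -- the factors on which `⟨x⟩` induces nothing
  have hgoodT : ∀ T ∈ 𝒯, ind φ (zpowers x) T = ⊥ → ∀ u ∈ U, ∀ t ∈ T, u * t = t * u := by
    intro T hT hxT u hu t ht
    obtain ⟨B, hB, hxB, hBT⟩ := exists_hyper hA hA2 (hcard T hT).le hxT
    obtain ⟨Y, hYq, hYi, hUY, hnY⟩ := hC B hB hxB
    exact comm_of_ind_bot hF hNi hPA hpq hYq hU hUY hnY hT hBT hu ht
  -- a hyperplane containing `x`
  obtain ⟨B, hB, hxB⟩ : ∃ B : Subgroup A, B.index = p ∧ x ∈ B := by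
    have hp' := (Fact.out : p.Prime)
    have hcx : Nat.card (zpowers x) ≤ p := by
      rw [Nat.card_zpowers]
      exact Nat.le_of_dvd hp'.pos (orderOf_dvd_of_pow_eq_one (hA x))
    obtain ⟨B, hB1, hB2, -, -⟩ := H9.SimpleHyper.exists_hyperplane (p := p) hA (B₀ := zpowers x)
      (C₀ := zpowers x) le_rfl
      (by
        intro h1
        rw [h1, Subgroup.card_top] at hcx
        have := hp'.one_lt
        nlinarith)
      (by rw [relIndex_self]; exact hp'.one_lt.le)
    exact ⟨B, hB1, hB2 (mem_zpowers x)⟩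
  obtain ⟨Y, hYq, hYi, hUY, hnY⟩ := hC B hB hxB
  have hxB' : zpowers x ≤ B := by rwa [zpowers_le]
  -- the commutators are fixed by `x`
  have hw : ∀ y ∈ U, ∀ f ∈ N ⊓ fix φ B, φ x (y * f * y⁻¹ * f⁻¹) = y * f * y⁻¹ * f⁻¹ := by
    intro y hy f hf
    have hwm := commutator_mem hUn hnY (hUY hy) hf
    set w := y * f * y⁻¹ * f⁻¹ with hwdef
    have hwN : w ∈ N := hwm.2
    refine ext_of_pr (Set.toFinite 𝒯) hF.pc hF.cl (hF.sup.symm ▸ hNi x w hwN) (hF.sup.symm ▸ hwN) fun T hT => ?_
    by_cases hxT : ind φ (zpowers x) T = ⊥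
    · -- both projections are trivial
      have key : ∀ J ∈ 𝒯, ind φ (zpowers x) J = ⊥ → Acts J w 1 := by
        intro J hJ hxJ
        have hfd : f ∈ dom J := hF.le_dom hJ hf.1
        have h2 := pr_acts hfd
        have h3 := acts_im h2 (MulAut.conj y)
        have h4 : im (MulAut.conj y) J = J :=
          im_conj_of_mem_normalizer (by
            have h5 : y ∈ centralizer (J : Set V) := by
              rw [mem_centralizer_iff]
              intro t ht
              exact (hgoodT J hJ hxJ y hy t ht).symm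
            exact Subgroup.centralizer_le_normalizer _ h5)
        have h5 : MulAut.conj y (pr J f) = pr J f := by
          rw [MulAut.conj_apply, hgoodT J hJ hxJ y hy _ (pr_mem hfd), mul_inv_cancel_right]
        rw [h4, h5, MulAut.conj_apply] at h3
        have h6 := h3.mul h2.inv
        rwa [mul_inv_cancel] at h6
      have h1 := key T hT hxT
      have hT' : im (φ x)⁻¹ T ∈ 𝒯 := by
        refine hF.aut _ ?_ T hT
        rw [← map_inv]
        exact hNi.map_eq _
      have hxT' : ind φ (zpowers x) (im (φ x)⁻¹ T) = ⊥ := by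
        rw [← map_inv]
        exact ind_im_eq_bot hxT x⁻¹
      have h2 := acts_im (key _ hT' hxT') (φ x)
      rw [im_im_inv, map_one] at h2
      rw [h1.pr_eq (hF.cl T hT), h2.pr_eq (hF.cl T hT)]
    · have hind : ind φ B T = ind φ ⊤ T := by
        refine (hF.ind_cases hNi hA hg hs hT B).resolve_left fun hb => hxT ?_
        rw [ind_eq_bot_iff] at hb ⊢
        exact fun b hb' => hb b (hxB' hb')
      have hdw : w ∈ dom T := hF.le_dom hT hwN
      have hsol := hF.solv_fxs hNi hs hT
      set W : Subgroup T := (prS T (Y ⊓ N)).subgroupOf T with hW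
      have hWs : IsPGroup q W := by
        have h1 : IsPGroup q (prS T (Y ⊓ N)) := isPGroup_prS (hF.cl T hT) (hYq.to_le inf_le_left)
        exact h1.comap_of_injective T.subtype T.subtype_injective
      have hWn : fxs (ind φ ⊤ T) ≤ normalizer (W : Set T) := by
        have h1 := subgroupOf_le_normalizer (prS_normalizer (T := T) (le_normalizer_inf_of hUn hnY)) T
        rw [prS_fix hF hNi hT, hind] at h1
        refine le_trans ?_ h1
        intro t ht
        exact ⟨t, ht, rfl⟩
      have h1 := hTt T hT hxT W (pInv_prS (hYi.inf hNi)) hWs hWn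
      have h2 : (⟨pr T w, pr_mem hdw⟩ : T) ∈ fxs (ind φ ⊤ T) := h1 ⟨w, hwm, pr_acts hdw⟩
      have himT := im_of_ind_ne hA hxT
      have h3 : φ x (pr T w) = pr T w := mem_fxs_ind.mp h2 x (mem_top x) himT
      have h4 := acts_im (pr_acts hdw) (φ x)
      rw [himT] at h4
      rw [h4.pr_eq (hF.cl T hT), h3]
  -- `U` centralises `N ⊓ fix φ B`
  have hXf : U ≤ centralizer ((N ⊓ fix φ B : Subgroup V) : Set V) := by
    refine hgen.trans ?_
    rw [Subgroup.closure_le]
    rintro _ ⟨y, hy, rfl⟩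
    show y⁻¹ * φ x y ∈ centralizer ((N ⊓ fix φ B : Subgroup V) : Set V)
    rw [mem_centralizer_iff]
    intro f hf
    have h2 := hw y hy f hf
    have hfx : φ x f = f := hf.2 x hxB
    rw [map_mul, map_mul, map_mul, map_inv, map_inv, hfx] at h2
    have h3 : φ x y * f * (φ x y)⁻¹ = y * f * y⁻¹ := mul_right_cancel h2
    calc f * (y⁻¹ * φ x y) = y⁻¹ * (y * f * y⁻¹) * φ x y := by group
      _ = y⁻¹ * (φ x y * f * (φ x y)⁻¹) * φ x y := by rw [h3]
      _ = y⁻¹ * φ x y * f := by group
  have hUc : U ≤ centralizer (N : Set V) := by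
    refine hF.core hNi hPA hpq hUq (B := B) (fun b _ => hU b) ?_ ?_ ?_
    · intro y hy f hf
      exact (mem_centralizer_iff.mp (hXf hy) f hf).symm
    · intro T hT h1
      by_cases hb : ind φ B T = ⊥
      · rw [hb, fxs_bot] at h1
        have := (hF.simple T hT).toNontrivial
        exact top_ne_bot h1
      · rw [(hF.ind_cases hNi hA hg hs hT B).resolve_left hb] at h1
        have hsol := hF.solv_fxs hNi hs hT
        obtain ⟨r, hr⟩ := hNS T (hF.simple T hT) (hF.not_comm hT) (Sec.self T)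
        have h2 := (hr.2 T ⟨MulEquiv.refl _⟩ _ (hcard T hT) hsol).ne
        exact h2 (le_bot_iff.mp (h1 ▸ piCoreOf_le _ _))
    · intro T hT σ hσ h1
      by_cases hb : ind φ B T = ⊥
      · rw [hb, fxs_bot] at h1
        exact MulEquiv.ext fun t => h1 t (mem_top t)
      · rw [(hF.ind_cases hNi hA hg hs hT B).resolve_left hb] at h1
        have hsol := hF.solv_fxs hNi hs hT
        obtain ⟨r, hr⟩ := hNS T (hF.simple T hT) (hF.not_comm hT) (Sec.self T)
        exact (hr.2 T ⟨MulEquiv.refl _⟩ _ (hcard T hT) hsol).rigid σ hσ h1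
  exact hUc

end Cfsg.Agent.H15.NB
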